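import Groth.Agent.DivX.MeroMod
import Groth.Agent.Div21Lib.Stalks
import Groth.Agent.HomShX.Basic
import Groth.Agent.InvX.Pullback
import Groth.Agent.InvX.GenLocusPull
import Groth.Agent.ThetaLib.PrGlue
import Groth.Agent.CurveAlgEqLib.IdealPull
import Groth.Agent.AmpleVan.Criterion

/-!
# The zero scheme of a map of invertible modules
-/

set_option autoImplicit false
set_option linter.style.haveILetI false
set_option backward.isDefEq.respectTransparency false
set_option backward.isDefEq.respectTransparency.types false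

universe u

open CategoryTheory CategoryTheory.Limits AlgebraicGeometry TopologicalSpace Opposite

namespace Groth.Agent.ZeroMapX

open Groth.Agent InvX

variable {X : Scheme.{u}} {A B : X.Modules}

/-- `I` is the ideal of the zeros of `φ`: on frames, it is generated by the coefficient of `φ`. -/
def IsZeroIdeal (φ : A ⟶ B) (I : X.IdealSheafData) : Prop :=
  ∀ (x : X) (U : X.Opens) (hx : x ∈ U) (a : Γ(A, U)) (b : Γ(B, U)) (c : Γ(X, U)),
    IsFrame a → IsFrame b → φ.app U a = c • b → Div21Lib.st I x = Ideal.span {X.presheaf.germ U x hx c}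

theorem span_germ_eq (φ : A ⟶ B) {x : X} {U U' : X.Opens} (hx : x ∈ U) (hx' : x ∈ U')
    {a : Γ(A, U)} {b : Γ(B, U)} {c : Γ(X, U)} {a' : Γ(A, U')} {b' : Γ(B, U')} {c' : Γ(X, U')}
    (ha : IsFrame a) (hb : IsFrame b) (hc : φ.app U a = c • b) (ha' : IsFrame a') (hb' : IsFrame b')
    (hc' : φ.app U' a' = c' • b') :
    Ideal.span {X.presheaf.germ U x hx c} = Ideal.span {X.presheaf.germ U' x hx' c'} := by
  obtain ⟨r, hr⟩ := (ha.germ_bijective hx).2 (A.presheaf.germ U' x hx' a')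
  obtain ⟨s, hs⟩ := (hb.germ_bijective hx).2 (B.presheaf.germ U' x hx' b')
  obtain ⟨r', hr'⟩ := (ha'.germ_bijective hx').2 (A.presheaf.germ U x hx a)
  obtain ⟨s', hs'⟩ := (hb'.germ_bijective hx').2 (B.presheaf.germ U x hx b)
  dsimp only at hr hs hr' hs'
  have hu : r' * r = 1 := (ha'.germ_bijective hx').1 (by
    show (r' * r) • _ = (1 : X.presheaf.stalk x) • _
    rw [one_smul, mul_comm, mul_smul, hr', hr])
  have hv : s * s' = 1 := (hb.germ_bijective hx).1 (by
    show (s * s') • _ = (1 : X.presheaf.stalk x) • _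
    rw [one_smul, mul_comm, mul_smul, hs, hs'])
  have e : X.presheaf.germ U' x hx' c' * s = r * X.presheaf.germ U x hx c := by
    refine (hb.germ_bijective hx).1 ?_
    show (_ * s) • _ = (r * _) • _
    rw [mul_smul, hs, ← QCoh.germ_smul', ← hc', mul_smul, ← QCoh.germ_smul', ← hc]
    rw [← RefHull.stalkMapₗ_germ φ x hx', ← RefHull.stalkMapₗ_germ φ x hx, ← map_smul, hr]
  have hru : IsUnit r := IsUnit.of_mul_eq_one_right r' hu
  have hsu : IsUnit s := IsUnit.of_mul_eq_one s' hv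
  calc Ideal.span {X.presheaf.germ U x hx c} = Ideal.span {r * X.presheaf.germ U x hx c} :=
        (Ideal.span_singleton_mul_left_unit hru _).symm
    _ = Ideal.span {X.presheaf.germ U' x hx' c' * s} := by rw [e]
    _ = _ := Ideal.span_singleton_mul_right_unit hsu _

theorem exists_local (φ : A ⟶ B) (hA : PicF.IsInvertible A) (hB : PicF.IsInvertible B) (x : X) :
    ∃ (U : X.affineOpens) (a : Γ(A, U.1)) (b : Γ(B, U.1)) (c : Γ(X, U.1)),
      x ∈ U.1 ∧ IsFrame a ∧ IsFrame b ∧ φ.app U.1 a = c • b := by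
  obtain ⟨U₀, hx, a, b, ha, hb⟩ := exists_frame₂ hA hB x
  obtain ⟨U, hU, hxU, hle⟩ := exists_isAffineOpen_mem_and_subset hx
  obtain ⟨c, hc⟩ := (hb.res hle).exists_coord le_rfl (φ.app U (AModX.res A hle a))
  rw [AModX.res_self] at hc
  exact ⟨⟨U, hU⟩, _, _, c, hxU, ha.res hle, hb.res hle, hc⟩

/-- The zero scheme exists. -/
theorem exists_isZeroIdeal (φ : A ⟶ B) (hA : PicF.IsInvertible A) (hB : PicF.IsInvertible B) :
    ∃ I : X.IdealSheafData, IsZeroIdeal φ I := by
  choose U a b c hxU ha hb hc using exists_local φ hA hB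
  let Q : ∀ x : X, Ideal (X.presheaf.stalk x) := fun x => Ideal.span {X.presheaf.germ (U x).1 x (hxU x) (c x)}
  have hQ : ∀ x : X, ∃ (V : X.Opens), x ∈ V ∧ ∃ g : Γ(X, V), ∀ z (hz : z ∈ V), Q z = Ideal.span {X.presheaf.germ V z hz g} :=
    fun x => ⟨(U x).1, hxU x, c x, fun z hz =>
      span_germ_eq φ (hxU z) hz (ha z) (hb z) (hc z) (ha x) (hb x) (hc x)⟩
  refine ⟨Div21Lib.ofStalks Q hQ, fun x V hx a' b' c' ha' hb' hc' => ?_⟩
  rw [Div21Lib.st_ofStalks]
  exact span_germ_eq φ (hxU x) hx (ha x) (hb x) (hc x) ha' hb' hc'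

theorem IsZeroIdeal.unique {φ : A ⟶ B} (hA : PicF.IsInvertible A) (hB : PicF.IsInvertible B)
    {I J : X.IdealSheafData} (hI : IsZeroIdeal φ I) (hJ : IsZeroIdeal φ J) : I = J := by
  refine Div21Lib.ext_st fun x => ?_
  obtain ⟨U, a, b, c, hx, ha, hb, hc⟩ := exists_local φ hA hB x
  rw [hI x U.1 hx a b c ha hb hc, hJ x U.1 hx a b c ha hb hc]

theorem IsZeroIdeal.ideal_eq {φ : A ⟶ B} {I : X.IdealSheafData} (hI : IsZeroIdeal φ I) (U : X.affineOpens)
    {a : Γ(A, U.1)} {b : Γ(B, U.1)} {c : Γ(X, U.1)} (ha : IsFrame a) (hb : IsFrame b) (hc : φ.app U.1 a = c • b) :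
    I.ideal U = Ideal.span {c} := by
  refine le_antisymm (fun s hs => Div21Lib.mem_of_germ U.2 _ s fun z hz => ?_)
    ((Ideal.span_singleton_le_iff_mem _).2 (Div21Lib.mem_of_germ U.2 _ c fun z hz => ?_))
  · rw [Ideal.map_span, Set.image_singleton]
    refine (hI z U.1 hz a b c ha hb hc).le ?_
    rw [Div21Lib.st_eq I U hz]
    exact Ideal.mem_map_of_mem _ hs
  · refine (Div21Lib.st_eq I U hz).le ?_
    rw [hI z U.1 hz a b c ha hb hc]
    exact Ideal.mem_span_singleton_self _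

/-- Isomorphisms on either side do not change the zeros. -/
theorem IsZeroIdeal.comp_iso {φ : A ⟶ B} {I : X.IdealSheafData} (hI : IsZeroIdeal φ I) {A' B' : X.Modules}
    (α : A' ≅ A) (β : B ≅ B') : IsZeroIdeal (α.hom ≫ φ ≫ β.hom) I := by
  intro x U hx a b c ha hb hc
  refine hI x U hx (α.hom.app U a) (β.inv.app U b) c (ha.map_iso α) (hb.map_iso β.symm) ?_
  have h := congrArg (β.inv.app U) hc
  rw [Scheme.Modules.Hom.app_smul] at h
  refine Eq.trans ?_ h
  show φ.app U (α.hom.app U a) = (β.hom ≫ β.inv).app U (φ.app U (α.hom.app U a))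
  rw [β.hom_inv_id]
  rfl

theorem germ_coef_nzd {φ : A ⟶ B} {I : X.IdealSheafData} (hI : IsZeroIdeal φ I)
    (hC : BlowUp.IsEffCartierIdeal I) {x : X} {U : X.Opens} (hx : x ∈ U) {a : Γ(A, U)} {b : Γ(B, U)} {c : Γ(X, U)}
    (ha : IsFrame a) (hb : IsFrame b) (hc : φ.app U a = c • b) :
    X.presheaf.germ U x hx c ∈ nonZeroDivisors (X.presheaf.stalk x) := by
  obtain ⟨g, hg, hgs⟩ := Div21Lib.exists_gen I hC x
  rw [hI x U hx a b c ha hb hc] at hgs
  obtain ⟨r, hr⟩ := Ideal.mem_span_singleton'.1 (hgs ▸ Ideal.mem_span_singleton_self g)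
  refine mem_nonZeroDivisors_iff_right.2 fun z hz => mem_nonZeroDivisors_iff_right.1 hg _ ?_
  rw [← hr, ← mul_assoc, mul_comm z r, mul_assoc, hz, mul_zero]

theorem mono_of_isZeroIdeal {φ : A ⟶ B} (hA : PicF.IsInvertible A) (hB : PicF.IsInvertible B)
    {I : X.IdealSheafData} (hI : IsZeroIdeal φ I) (hC : BlowUp.IsEffCartierIdeal I) : Mono φ := by
  refine HomShX.mono_of_stalk φ fun x => ?_
  obtain ⟨U, a, b, c, hx, ha, hb, hc⟩ := exists_local φ hA hB x
  intro m m' h
  obtain ⟨r, rfl⟩ := (ha.germ_bijective hx).2 m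
  obtain ⟨r', rfl⟩ := (ha.germ_bijective hx).2 m'
  simp only [map_smul, RefHull.stalkMapₗ_germ, hc, QCoh.germ_smul', ← mul_smul] at h
  have h1 := (hb.germ_bijective hx).1 h
  have h2 : r = r' := by
    rw [← sub_eq_zero]
    refine mem_nonZeroDivisors_iff_right.1 (germ_coef_nzd hI hC hx ha hb hc) _ ?_
    rw [sub_mul, h1, sub_self]
  rw [h2]

/-- Two maps into the same module with the same zero divisor have isomorphic sources. -/
theorem exists_factor {A' : X.Modules} {φ : A ⟶ B} {φ' : A' ⟶ B} (hA : PicF.IsInvertible A)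
    (hA' : PicF.IsInvertible A') (hB : PicF.IsInvertible B) {I : X.IdealSheafData} (hI : IsZeroIdeal φ I)
    (hI' : IsZeroIdeal φ' I) (hC : BlowUp.IsEffCartierIdeal I) : ∃ e : A ≅ A', e.hom ≫ φ' = φ := by
  haveI := mono_of_isZeroIdeal hA' hB hI' hC
  choose U a b c hxU ha hb hc using exists_local φ hA hB
  have hloc : ∀ x : X, ∃ (V : X.Opens) (_ : x ∈ V) (hV : V ≤ (U x).1) (a' : Γ(A', V)) (u : Γ(X, V)),
      IsUnit u ∧ IsFrame a' ∧ φ.app V (AModX.res A hV (a x)) = u • φ'.app V a' := by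
    intro x
    obtain ⟨U', a', b', c', hx', ha', hb', hc'⟩ := exists_local φ' hA' hB x
    let V₀ := (U x).1 ⊓ U'.1
    have hx₀ : x ∈ V₀ := ⟨hxU x, hx'⟩
    have hb₀ := hb'.res (inf_le_right : V₀ ≤ U'.1)
    obtain ⟨t, ht⟩ := hb₀.exists_coord le_rfl (AModX.res B (inf_le_left : V₀ ≤ (U x).1) (b x))
    rw [AModX.res_self] at ht
    let d := AModX.resR (inf_le_left : V₀ ≤ (U x).1) (c x) * t
    let d' := AModX.resR (inf_le_right : V₀ ≤ U'.1) c'
    have hd : φ.app V₀ (AModX.res A inf_le_left (a x)) = d • AModX.res B (inf_le_right : V₀ ≤ U'.1) b' := by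
      rw [AModX.app_res, hc, AModX.res_smul, ht, mul_smul]
    have hd' : φ'.app V₀ (AModX.res A' inf_le_right a') = d' • AModX.res B (inf_le_right : V₀ ≤ U'.1) b' := by
      rw [AModX.app_res, hc', AModX.res_smul]
    have h1 := hI x V₀ hx₀ _ _ d ((ha x).res _) hb₀ hd
    have h2 := hI' x V₀ hx₀ _ _ d' (ha'.res _) hb₀ hd'
    obtain ⟨r, hr⟩ := Ideal.mem_span_singleton'.1 ((h1.symm.trans h2).le (Ideal.mem_span_singleton_self _))
    obtain ⟨r₂, hr₂⟩ := Ideal.mem_span_singleton'.1 ((h2.symm.trans h1).le (Ideal.mem_span_singleton_self _))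
    have hru : IsUnit r := by
      refine IsUnit.of_mul_eq_one r₂ ?_
      have h3 : (r * r₂ - 1) * X.presheaf.germ V₀ x hx₀ d = 0 := by
        rw [sub_mul, one_mul, mul_assoc, hr₂, hr, sub_self]
      exact sub_eq_zero.1 (mem_nonZeroDivisors_iff_right.1 (germ_coef_nzd hI hC hx₀ ((ha x).res _) hb₀ hd) _ h3)
    obtain ⟨W₁, hW₁, r₁, rfl⟩ := X.presheaf.exists_germ_eq (x := x) r
    let V₁ := W₁ ⊓ V₀
    have hx₁ : x ∈ V₁ := ⟨hW₁, hx₀⟩
    let r₁' := AModX.resR (inf_le_left : V₁ ≤ W₁) r₁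
    rw [← germ_resR' (inf_le_left : V₁ ≤ W₁) hx₁, ← germ_resR' (inf_le_right : V₁ ≤ V₀) hx₁ d,
      ← germ_resR' (inf_le_right : V₁ ≤ V₀) hx₁ d', ← map_mul] at hr
    obtain ⟨W, hW, i, j, hij⟩ := TopCat.Presheaf.germ_eq (X := X.toTopCat) X.presheaf x hx₁ hx₁ _ _ hr
    let V := X.basicOpen r₁' ⊓ W
    have hxr : x ∈ X.basicOpen r₁' := by
      rw [X.mem_basicOpen _ x hx₁, germ_resR']
      exact hru
    have hVV₀ : V ≤ V₀ := (inf_le_left.trans (X.basicOpen_le r₁')).trans inf_le_right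
    refine ⟨V, ⟨hxr, hW⟩, hVV₀.trans inf_le_left, AModX.res A' (hVV₀.trans inf_le_right) a',
      AModX.resR (inf_le_left.trans (X.basicOpen_le r₁') : V ≤ V₁) r₁', ?_, ha'.res _, ?_⟩
    · have h4 : IsUnit (AModX.resR (X.basicOpen_le r₁') r₁') := RingedSpace.isUnit_res_basicOpen _ r₁'
      have h5 := h4.map (AModX.resR (inf_le_left : V ≤ X.basicOpen r₁'))
      rw [AModX.resR_resR] at h5
      exact h5
    · have e1 := congrArg (AModX.res B hVV₀) hd
      have e2 := congrArg (AModX.res B hVV₀) hd'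
      rw [← AModX.app_res, AModX.res_res, AModX.res_smul] at e1 e2
      rw [e1, e2, ← mul_smul]
      refine congrArg (· • _) ?_
      have e3 : AModX.resR (inf_le_right : V ≤ W) (AModX.resR i.le (r₁' * AModX.resR inf_le_right d')) =
          AModX.resR (inf_le_right : V ≤ W) (AModX.resR j.le (AModX.resR inf_le_right d)) :=
        congrArg (AModX.resR (inf_le_right : V ≤ W)) hij
      simp only [map_mul, AModX.resR_resR] at e3
      exact ((AModX.resR_resR (inf_le_right : V₁ ≤ V₀) _ d).symm.trans e3.symm).trans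
        (congrArg (_ * ·) (AModX.resR_resR (inf_le_right : V₁ ≤ V₀) _ d'))
  choose V hxV hV a' u hu ha' hφ using hloc
  have hz : φ ≫ cokernel.π φ' = 0 := by
    refine hom_ext_of_frames V (fun x => ⟨x, hxV x⟩) (fun x => AModX.res A (hV x) (a x)) (fun x => (ha x).res _)
      fun x => ?_
    show (cokernel.π φ').app (V x) (φ.app (V x) (AModX.res A (hV x) (a x))) = 0
    rw [hφ, Scheme.Modules.Hom.app_smul, show (cokernel.π φ').app (V x) (φ'.app (V x) (a' x)) = 0 from
      congrArg (fun ψ => ψ.app (V x) (a' x)) (cokernel.condition φ'), smul_zero]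
  let l : A ⟶ A' := Abelian.monoLift φ' φ hz
  have hl : l ≫ φ' = φ := Abelian.monoLift_comp _ _ _
  have : IsIso l := DivX.isIso_of_frames l fun x => by
    refine ⟨V x, hxV x, AModX.res A (hV x) (a x), (ha x).res _, ?_⟩
    have h : l.app (V x) (AModX.res A (hV x) (a x)) = u x • a' x := by
      refine (ZClosLib.app_injective_of_mono φ' (V x)) ?_
      rw [Scheme.Modules.Hom.app_smul, ← hφ]
      exact congrArg (fun ψ => ψ.app (V x) (AModX.res A (hV x) (a x))) hl
    rw [h]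
    exact (ha' x).isUnit_smul (hu x)
  exact ⟨asIso l, hl⟩

end Groth.Agent.ZeroMapX
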