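import Groth.Agent.ZeroMapX.Basic
import Groth.Agent.AmpleVan.Mul
import Groth.Agent.H23.EndInv

/-!
# Inverse images and twists of zero schemes
-/

set_option autoImplicit false
set_option maxHeartbeats 1600000
set_option linter.style.haveILetI false
set_option backward.isDefEq.respectTransparency false
set_option backward.isDefEq.respectTransparency.types false

universe u

open CategoryTheory CategoryTheory.Limits AlgebraicGeometry TopologicalSpace Opposite

namespace Groth.Agent.ZeroMapX

open Groth.Agent InvX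

variable {X Y : Scheme.{u}} {A B : X.Modules}

theorem map_pullElt_smul (g : Y ⟶ X) (φ : A ⟶ B) {U : X.Opens} {a : Γ(A, U)} {b : Γ(B, U)} {c : Γ(X, U)}
    (hc : φ.app U a = c • b) :
    ((Scheme.Modules.pullback g).map φ).app (g ⁻¹ᵁ U) (pullElt g a) = g.app U c • pullElt g b := by
  refine Eq.trans (ThetaLib.map_pullElt g φ a) ?_
  refine Eq.trans (congrArg (pullElt g) hc) ?_
  exact H23.EndInv.pullElt_smul (L := B) g c b

/-- Zero schemes commute with inverse images. -/
theorem IsZeroIdeal.pullback {φ : A ⟶ B} {I : X.IdealSheafData} (hI : IsZeroIdeal φ I)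
    (hA : PicF.IsInvertible A) (hB : PicF.IsInvertible B) (g : Y ⟶ X) :
    IsZeroIdeal ((Scheme.Modules.pullback g).map φ) (I.comap g) := by
  intro y V hy a' b' c' ha' hb' hc'
  obtain ⟨U, a, b, c, hx, ha, hb, hc⟩ := exists_local φ hA hB (g y)
  rw [Div21Lib.st_comap, hI (g y) U.1 hx a b c ha hb hc, Ideal.map_span, Set.image_singleton,
    show (g.stalkMap y).hom (X.presheaf.germ U.1 (g y) hx c) = Y.presheaf.germ (g ⁻¹ᵁ U.1) y hx (g.app U.1 c) from
      Scheme.Hom.germ_stalkMap_apply g U.1 y hx c]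
  have h1 := isFrame_pullElt g ha
  have h2 := isFrame_pullElt g hb
  have h3 := map_pullElt_smul g φ hc
  exact span_germ_eq (A := (Scheme.Modules.pullback g).obj A) (B := (Scheme.Modules.pullback g).obj B)
    ((Scheme.Modules.pullback g).map φ) (U := g ⁻¹ᵁ U.1) (U' := V) hx hy (a' := a') (b' := b') (c' := c') h1 h2 h3 ha' hb' hc'

theorem idealModι_app (I : X.IdealSheafData) {U : X.Opens} (ε : Γ(ClSub.idealMod I, U)) :
    (ClSub.idealModι I).app U ε = (OmegaSh.idealSect I U ε) •
      (show Γ(Coh.structureModule X, U) from (1 : Γ(X, U))) := by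
  show _ = (show Γ(X, U) from OmegaSh.idealSect I U ε) * (1 : Γ(X, U))
  rw [mul_one, OmegaSh.idealSect_apply]
  rfl

/-- The twisted inclusion of an invertible ideal vanishes exactly along it. -/
theorem isZeroIdeal_twist (I : X.IdealSheafData) (hI : PicF.IsInvertible (ClSub.idealMod I)) (hB : PicF.IsInvertible B) :
    IsZeroIdeal ((AmpleVan.tw B).map (ClSub.idealModι I)) I := by
  intro x V hx a' b' c' ha' hb' hc'
  obtain ⟨U₀, hx₀, ε, β, hε, hβ⟩ := exists_frame₂ hI hB x
  obtain ⟨U, hU, hxU, hle⟩ := exists_isAffineOpen_mem_and_subset hx₀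
  have hfb : IsFrame (tmul (show Γ(Coh.structureModule X, U) from (1 : Γ(X, U))) (AModX.res B hle β)) :=
    isFrame_tmul (isFrame_one U) (hβ.res hle)
  have hc : ((AmpleVan.tw B).map (ClSub.idealModι I)).app U (tmul (AModX.res _ hle ε) (AModX.res B hle β)) =
      OmegaSh.idealSect I U (AModX.res _ hle ε) •
        tmul (show Γ(Coh.structureModule X, U) from (1 : Γ(X, U))) (AModX.res B hle β) := by
    refine (AmpleVan.map_tmul_left (ClSub.idealModι I) (AModX.res _ hle ε) (AModX.res B hle β)).trans ?_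
    rw [idealModι_app]
    exact tmul_smul_left _ _ _
  rw [Div21Lib.st_eq I ⟨U, hU⟩ hxU, CDivEq.stk, CurveAlgEqLib.span_idealSect_frame I ⟨U, hU⟩ (hε.res hle),
    Ideal.map_span, Set.image_singleton]
  exact span_germ_eq _ hxU hx (isFrame_tmul (hε.res hle) (hβ.res hle)) hfb hc ha' hb' hc'

/-- A map of invertible modules with divisor `I` makes the source `I ⊗ B`. -/
theorem nonempty_iso_of_isZeroIdeal {φ : A ⟶ B} (hA : PicF.IsInvertible A) (hB : PicF.IsInvertible B)
    {I : X.IdealSheafData} (hI : IsZeroIdeal φ I) (hC : BlowUp.IsEffCartierIdeal I) :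
    Nonempty (A ≅ CohB1.tensorMod (ClSub.idealMod I) B) := by
  have hIi : PicF.IsInvertible (ClSub.idealMod I) := (S8914.result I).2 hC
  obtain ⟨c⟩ := H23.PicMul.comm (Coh.structureModule X) B
  let lam : (AmpleVan.tw B).obj (Coh.structureModule X) ≅ B := c ≪≫ KFlatLib.tensorUnitIso B
  have h' : IsZeroIdeal ((AmpleVan.tw B).map (ClSub.idealModι I) ≫ lam.hom) I := by
    have h := (isZeroIdeal_twist (B := B) I hIi hB).comp_iso (Iso.refl _) lam
    rwa [Iso.refl_hom, Category.id_comp] at h
  obtain ⟨e, -⟩ := exists_factor hA (InvX.isInvertible_tensorMod hIi hB) hB hI h' hC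
  exact ⟨e⟩

end Groth.Agent.ZeroMapX
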